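import Groth.Agent.Inter.Devissage
import Groth.Agent.Inter.StalkQuot
import Groth.Agent.EulerDeg.Tensor
import Groth.Agent.LimitMod.LocFree

/-!
An additive function on coherent modules vanishing on `E ⊗ F` for a coherent `E` of full support vanishes identically;
the Euler characteristic of a free module tensored with a coherent one.
-/

set_option autoImplicit false
set_option linter.style.haveILetI false
universe u

open CategoryTheory CategoryTheory.Limits AlgebraicGeometry TopologicalSpace

namespace Groth.AbVarEuler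

open Groth.KTheory Groth.KTheory.Devissage

variable {X : Scheme.{u}} [IsNoetherian X]

/-- The length at `y` of the stalk, as an integer. -/
noncomputable def len (y : X) (G : X.Modules) : ℤ :=
  ((Module.length (X.presheaf.stalk y) (G.presheaf.stalk y)).toNat : ℤ)

theorem closure_eq_zero (φ : X.Modules → ℤ)
    (hadd : ∀ S : ShortComplex X.Modules, S.ShortExact → Coh.IsCoh S.X₁ → Coh.IsCoh S.X₂ →
      Coh.IsCoh S.X₃ → φ S.X₂ = φ S.X₁ + φ S.X₃)
    (E : X.Modules) (hE : Coh.IsCoh E) (hsupp : CohB1.support E = Set.univ)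
    (h0 : ∀ y : X, φ (CohB1.tensorMod E (Cyc.closureStructureSheaf y)) = 0) :
    ∀ Z : Closeds X, ∀ y : X, closure ({y} : Set X) ⊆ Z → φ (Cyc.closureStructureSheaf y) = 0 := by
  intro Z
  induction Z using WellFoundedLT.induction with
  | ind Z IH =>
  intro y hy
  let Z' : Set X := closure {y}
  have hmax : ∀ G : X.Modules, CohB1.support G ⊆ Z' → ∀ z ∈ CohB1.support G, z ⤳ y → z = y := fun G hG z hz hzy =>
    (Specializes.antisymm hzy (specializes_iff_mem_closure.2 (hG hz))).eq
  have hlower : ∀ y' : X, closure ({y'} : Set X) ⊆ Z' → y' ≠ y → φ (Cyc.closureStructureSheaf y') = 0 := by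
    intro y' hy' hne
    refine IH ⟨closure {y'}, isClosed_closure⟩ (lt_of_le_of_ne (fun z hz => hy (hy' hz)) fun e => hne ?_) y'
      subset_rfl
    have h1 : y ∈ closure ({y'} : Set X) := by
      have : y ∈ (Z : Set X) := hy (subset_closure rfl)
      rwa [← e] at this
    exact (Specializes.antisymm (specializes_iff_mem_closure.2 h1)
      (specializes_iff_mem_closure.2 (hy' (subset_closure rfl)))).eq
  have key : ∀ G : X.Modules, Coh.IsCoh G → CohB1.support G ⊆ Z' →
      φ G = len y G * φ (Cyc.closureStructureSheaf y) := by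
    intro G hG hGs
    rw [← sub_eq_zero]
    refine Groth.Inter.additive_eq_zero_of_support (fun G => φ G - len y G * φ (Cyc.closureStructureSheaf y))
      isClosed_closure (fun S hS c₁ c₂ c₃ s₁ s₂ s₃ => ?_) (fun y' hy' => ?_) hG hGs
    · have hlen : len y S.X₂ = len y S.X₁ + len y S.X₃ := by
        have l₁ := length_stalk_ne_top c₁ y (hmax _ s₁)
        have l₃ := length_stalk_ne_top c₃ y (hmax _ s₃)
        have h := (Groth.DerivedCoh.KFlat.shortExact_iff_stk S).1 hS y
        have e : Module.length (X.presheaf.stalk y) (S.X₂.presheaf.stalk y) =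
            Module.length (X.presheaf.stalk y) (S.X₁.presheaf.stalk y) +
              Module.length (X.presheaf.stalk y) (S.X₃.presheaf.stalk y) :=
          Module.length_eq_add_of_exact (S.map (Groth.DerivedCoh.KFlat.stk y)).f.hom
            (S.map (Groth.DerivedCoh.KFlat.stk y)).g.hom h.injective_f h.surjective_g
            ((ShortComplex.moduleCat_exact_iff_range_eq_ker _).1 h.exact |> fun e => LinearMap.exact_iff.2 e.symm)
        simp only [len]
        rw [e, ENat.toNat_add l₁ l₃, Nat.cast_add]
      rw [hadd S hS c₁ c₂ c₃, hlen]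
      ring
    · by_cases hne : y' = y
      · subst hne
        have : len y' (Cyc.closureStructureSheaf y') = 1 := by
          simp [len, length_closureStructureSheaf]
        rw [this, one_mul, sub_self]
      · have : len y (Cyc.closureStructureSheaf y') = 0 := by
          have hnot : y ∉ CohB1.support (Cyc.closureStructureSheaf y') := fun hh =>
            hne (Specializes.antisymm (specializes_iff_mem_closure.2 (support_closureStructureSheaf_subset y' hh))
              (specializes_iff_mem_closure.2 (hy' (subset_closure rfl)))).eq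
          have hs : Subsingleton ((Cyc.closureStructureSheaf y').presheaf.stalk y) := not_not.1 hnot
          simp [len, Module.length_eq_zero_iff.2 hs]
        rw [this, hlower y' hy' hne, zero_mul, sub_zero]
  have hc : Coh.IsCoh (CohB1.tensorMod E (Cyc.closureStructureSheaf y)) :=
    Groth.Inter.isCoh_tensor_quotMod hE (IntMult.ptIdeal y)
  have hs : CohB1.support (CohB1.tensorMod E (Cyc.closureStructureSheaf y)) = Z' := by
    refine (Groth.Inter.support_tensor_quotMod hE (IntMult.ptIdeal y)).trans ?_
    rw [hsupp, Set.univ_inter, IntMult.ptIdeal, Scheme.IdealSheafData.coe_support_vanishingIdeal]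
    rfl
  have h1 := (key _ hc hs.le).symm.trans (h0 y)
  refine (mul_eq_zero.1 h1).resolve_left ?_
  generalize CohB1.tensorMod E (Cyc.closureStructureSheaf y) = G at hc hs
  have hyG : y ∈ CohB1.support G := hs.ge (subset_closure rfl)
  have hne : Module.length (X.presheaf.stalk y) (G.presheaf.stalk y) ≠ 0 := fun h =>
    hyG (Module.length_eq_zero_iff.1 h)
  have hfin := length_stalk_ne_top hc y (hmax G hs.le)
  simp only [len, Nat.cast_eq_zero, ENat.toNat_eq_zero, not_or]
  exact ⟨hne, hfin⟩

theorem eq_zero_of_tensor (φ : X.Modules → ℤ)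
    (hadd : ∀ S : ShortComplex X.Modules, S.ShortExact → Coh.IsCoh S.X₁ → Coh.IsCoh S.X₂ →
      Coh.IsCoh S.X₃ → φ S.X₂ = φ S.X₁ + φ S.X₃)
    (E : X.Modules) (hE : Coh.IsCoh E) (hsupp : CohB1.support E = Set.univ)
    (h0 : ∀ y : X, φ (CohB1.tensorMod E (Cyc.closureStructureSheaf y)) = 0)
    {F : X.Modules} (hF : Coh.IsCoh F) : φ F = 0 :=
  Groth.Inter.additive_eq_zero φ hadd isClosed_univ
    (fun y _ => closure_eq_zero φ hadd E hE hsupp h0 ⊤ y (fun _ _ => trivial)) hF (Set.subset_univ _)

end Groth.AbVarEuler

namespace Groth.AbVarEuler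

open Groth.EulerDeg

variable (k : Type u) [Field k] {X : Scheme.{u}} [X.Over (Spec (CommRingCat.of k))]
  [IsProper (X ↘ Spec (CommRingCat.of k))]

/-- `χ(G^d) = d χ(G)`. -/
theorem euler_powMod_any {G : X.Modules} (hG : Coh.IsCoh G) :
    ∀ d : ℕ, Curv2.euler k X (Groth.CohTwo.powMod G d) = d * Curv2.euler k X G := by
  have := isNoetherian_of_proper k X
  intro d
  induction d with
  | zero =>
    have hs : ∀ x : X, Subsingleton ((Groth.CohTwo.powMod G 0).presheaf.stalk x) :=
      fun x => (Groth.CohTwo.powStalk G 0 x).toEquiv.subsingleton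
    have := (Groth.CohTwo.isCoh_powMod hG 0).1
    rw [Groth.Inter.euler_of_isZero k ((Groth.QCohMod.isZero_iff_support_eq_empty _).2
      (Set.eq_empty_of_forall_notMem fun x hx => hx (hs x)))]
    simp
  | succ n ih =>
    obtain ⟨f, g, w, hS⟩ := powSeq_shortExact G n
    have e : Curv2.euler k X (Groth.CohTwo.powMod G (n + 1)) =
        Curv2.euler k X G + Curv2.euler k X (Groth.CohTwo.powMod G n) :=
      euler_add (S := ShortComplex.mk f g w) hS (finCoh k X hG) (finCoh k X (Groth.CohTwo.isCoh_powMod hG n))
    rw [e, ih]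
    push_cast
    ring

/-- `χ(O^d ⊗ G) = d χ(G)`. -/
theorem euler_freeMod_tensor {G : X.Modules} (hG : Coh.IsCoh G) (d : ℕ) :
    Curv2.euler k X (CohB1.tensorMod (FlatMod.freeMod X d) G) = d * Curv2.euler k X G := by
  have := isNoetherian_of_proper k X
  obtain ⟨b, -⟩ := Groth.PicAux.exists_braiding (FlatMod.freeMod X d) G
  rw [euler_congr k b, ← euler_powMod_any k hG d]
  let T := (DCoh.tensorBi (X := X)).obj G
  haveI : PreservesFiniteCoproducts T := inferInstance
  exact euler_congr k (PreservesCoproduct.iso T (fun _ : Fin d => Coh.structureModule X) ≪≫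
    Sigma.mapIso fun _ => SecTwist.unitorR G)

end Groth.AbVarEuler
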