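import Groth.Agent.CohBase.AffineBC
import Groth.Agent.LimitMod.LocFree
import Groth.Agent.Abvar.Rigidity
import Groth.Agent.Misc6.FinCovCover
import Groth.Agent.LocFree.Rank

/-!
For an isogeny `f` of abelian varieties the module `f^* f_* O` is free.
-/

set_option autoImplicit false
set_option linter.style.haveILetI false
universe u

open CategoryTheory CategoryTheory.Limits MonoidalCategory CartesianMonoidalCategory MonObj GrpObj AlgebraicGeometry

namespace Groth.AbVarEuler

variable {k : Type u} [Field k] {X Y : Over (Spec (CommRingCat.of k))}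

/-- A finite locally free module on a one point scheme is free. -/
theorem exists_free_of_subsingleton {T : Scheme.{u}} [Subsingleton T] [Nonempty T] {M : T.Modules} {n : ℕ}
    (h : FlatMod.IsFinLocFreeOfRank n M) : Nonempty (M ≅ FlatMod.freeMod T n) := by
  obtain ⟨x⟩ := (inferInstance : Nonempty T)
  obtain ⟨U, hxU, ⟨e⟩⟩ := h x
  have hU : U = ⊤ := top_unique fun y _ => Subsingleton.elim x y ▸ hxU
  haveI : IsIso U.ι := by
    subst hU
    rw [← Scheme.topIso_hom]; infer_instance
  have ht : LimitMod.Triv M U.ι n := ⟨((Scheme.Modules.restrictFunctorIsoPullback U.ι).app M).symm ≪≫ e⟩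
  obtain ⟨i⟩ := ht.comp (inv U.ι) (IsIso.inv_hom_id U.ι)
  exact ⟨((Scheme.Modules.pullbackId T).app M).symm ≪≫ i⟩

/-- A finite morphism of abelian varieties becomes a projection after pulling back along itself. -/
theorem exists_kernel_square [GrpObj X] [IsProper X.hom] [GeometricallyIntegral X.hom] [GrpObj Y]
    (f : X ⟶ Y) [IsFinite f.left] [Flat f.left] :
    ∃ (K : Over (Spec (CommRingCat.of k))) (t : K ⊗ X ⟶ X), IsFinite K.hom ∧ Flat K.hom ∧
      IsPullback t.left (snd K X).left f.left f.left := by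
  let g : X ⟶ Y := f * (toUnit X ≫ η[X] ≫ f)⁻¹
  let c : 𝟙_ (Over (Spec (CommRingCat.of k))) ⟶ Y := η[X] ≫ f
  have hg : ∀ {T : Over (Spec (CommRingCat.of k))} (a : T ⟶ X), a ≫ g = (a ≫ f) * (toUnit T ≫ c)⁻¹ := fun a => by
    rw [MonObj.comp_mul, GrpObj.comp_inv, ← Category.assoc, comp_toUnit]
  haveI : IsMonHom g := Groth.Abvar.isMonHom_of_one g (by
    rw [hg, toUnit_unique (toUnit (𝟙_ (Over (Spec (CommRingCat.of k))))) (𝟙 _), Category.id_comp, mul_inv_cancel,
      Hom.one_def, toUnit_unique (toUnit (𝟙_ (Over (Spec (CommRingCat.of k))))) (𝟙 _), Category.id_comp])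
  have hfg : ∀ {T : Over (Spec (CommRingCat.of k))} (a : T ⟶ X), a ≫ f = (a ≫ g) * (toUnit T ≫ c) := fun a => by
    rw [hg, inv_mul_cancel_right]
  haveI : IsFinite g.left ∧ Flat g.left := by
    let r : Y ⟶ Y := 𝟙 Y * (toUnit Y ≫ c)⁻¹
    haveI : IsIso r := by
      refine ⟨𝟙 Y * (toUnit Y ≫ c), ?_, ?_⟩
      · rw [MonObj.comp_mul, Category.comp_id, ← Category.assoc _ (toUnit Y) c, comp_toUnit]
        exact inv_mul_cancel_right _ _
      · rw [MonObj.comp_mul, Category.comp_id, GrpObj.comp_inv, ← Category.assoc _ (toUnit Y) c, comp_toUnit]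
        exact mul_inv_cancel_right _ _
    haveI : IsIso r.left := inferInstanceAs (IsIso ((Over.forget _).map r))
    have : g = f ≫ r := by
      rw [← Category.id_comp g, hg, MonObj.comp_mul, GrpObj.comp_inv, Category.comp_id, ← Category.assoc _ (toUnit Y) c, comp_toUnit,
        Category.id_comp]
    rw [this, Over.comp_left]
    exact ⟨inferInstance, inferInstance⟩
  obtain ⟨_, _⟩ := this
  let K := Limits.pullback g η[Y]
  let κ : K ⟶ X := pullback.fst g η[Y]
  have hκ : κ ≫ g = 1 := by
    rw [pullback.condition, Hom.one_def, toUnit_unique (pullback.snd g η[Y]) (toUnit _)]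
  have sqK : IsPullback κ.left (pullback.snd g η[Y]).left g.left η[Y].left :=
    (IsPullback.of_hasPullback g η[Y]).map (Over.forget _)
  have hK : (pullback.snd g η[Y]).left = K.hom := by
    have := Over.w (pullback.snd g η[Y])
    exact (Category.comp_id _).symm.trans this
  haveI hKf : IsFinite K.hom := hK ▸ MorphismProperty.of_isPullback (P := @IsFinite) sqK inferInstance
  haveI hKl : Flat K.hom := hK ▸ MorphismProperty.of_isPullback (P := @Flat) sqK inferInstance
  let t : K ⊗ X ⟶ X := (fst K X ≫ κ) * snd K X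
  refine ⟨K, t, hKf, hKl, ?_⟩
  refine IsPullback.map (Over.forget _) (?_ : IsPullback t (snd K X) f f)
  have hcomp : ∀ {T : Over (Spec (CommRingCat.of k))} (a b : T ⟶ X), a ≫ f = b ≫ f ↔ a ≫ g = b ≫ g := fun a b => by
    rw [hfg, hfg, mul_left_inj]
  have hgm : ∀ {T : Over (Spec (CommRingCat.of k))} (a b : T ⟶ X), (a * b) ≫ g = (a ≫ g) * (b ≫ g) := fun a b =>
    MonObj.mul_comp _ _ _
  have hw : t ≫ f = snd K X ≫ f := by
    rw [hcomp, hgm, Category.assoc, hκ, MonObj.comp_one, _root_.one_mul]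
  have hd : ∀ s : PullbackCone f f, (s.fst * s.snd⁻¹) ≫ g = toUnit _ ≫ η[Y] := fun s => by
    rw [hgm, (hcomp _ _).1 s.condition, ← hgm, mul_inv_cancel, ← Hom.one_def]
    exact MonObj.one_comp _
  refine ⟨⟨hw⟩, ⟨PullbackCone.IsLimit.mk hw (fun s => lift (pullback.lift (s.fst * s.snd⁻¹) (toUnit _) (hd s)) s.snd)
    (fun s => ?_) (fun s => lift_snd _ _) fun s n h1 h2 => ?_⟩⟩
  · rw [MonObj.comp_mul, lift_fst_assoc, pullback.lift_fst, lift_snd, inv_mul_cancel_right]
  · apply CartesianMonoidalCategory.hom_ext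
    · rw [lift_fst]
      apply pullback.hom_ext
      · rw [pullback.lift_fst, Category.assoc, eq_mul_inv_iff_mul_eq, ← h1, MonObj.comp_mul, h2]
      · exact toUnit_unique _ _
    · rw [lift_snd, h2]

/-- `f^* f_* O` is free for an isogeny of rank `d`. -/
theorem exists_free_pullback [GrpObj X] [IsProper X.hom] [GeometricallyIntegral X.hom] [GrpObj Y]
    [LocallyOfFiniteType Y.hom] (f : X ⟶ Y) [IsFinite f.left] [Flat f.left] (d : ℕ)
    (hd : ∀ y : ↥Y.left, Scheme.Hom.finrank f.left y = d) :
    Nonempty ((Scheme.Modules.pullback f.left).obj ((Scheme.Modules.pushforward f.left).obj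
      (Coh.structureModule X.left)) ≅ FlatMod.freeMod X.left d) := by
  haveI : LocallyOfFinitePresentation f.left := by
    haveI := LocallyOfFiniteType.isLocallyNoetherian Y.hom
    infer_instance
  obtain ⟨K, t, _, _, sq⟩ := exists_kernel_square f
  have sqP : IsPullback (fst K X).left (snd K X).left K.hom X.hom := IsPullback.of_hasPullback K.hom X.hom
  haveI : Subsingleton ↥(Spec (CommRingCat.of k)) := inferInstanceAs (Subsingleton (PrimeSpectrum k))
  haveI : LocallyOfFinitePresentation K.hom := by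
    haveI : IsLocallyNoetherian (Spec (CommRingCat.of k)) := inferInstance
    infer_instance
  let s₀ : ↥(Spec (CommRingCat.of k)) := IsLocalRing.closedPoint k
  haveI : Nonempty ↥(Spec (CommRingCat.of k)) := ⟨s₀⟩
  obtain ⟨e₀⟩ := exists_free_of_subsingleton (Groth.Misc6.FinCov.pushforward_of_isCover K.hom (K.hom.finrank s₀)
    ⟨⟨inferInstance, inferInstance, inferInstance⟩, fun s => congrArg _ (Subsingleton.elim _ _)⟩)
  obtain ⟨a⟩ := Groth.CohBase.AffineBC.nonempty_affine_bc sq (Coh.structureModule X.left)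
  obtain ⟨b⟩ := Groth.CohBase.AffineBC.nonempty_affine_bc sqP (Coh.structureModule K.left)
  obtain ⟨c⟩ := Groth.LimitMod.nonempty_pullback_freeMod X.hom (K.hom.finrank s₀)
  haveI := Groth.PicAux.isIso_pullUnit t.left
  haveI := Groth.PicAux.isIso_pullUnit (fst K X).left
  let u₁ := (Scheme.Modules.pushforward (snd K X).left).mapIso (asIso (Groth.PicAux.pullUnit t.left))
  let u₂ := (Scheme.Modules.pushforward (snd K X).left).mapIso (asIso (Groth.PicAux.pullUnit (fst K X).left))
  let e := a ≪≫ u₁ ≪≫ u₂.symm ≪≫ b.symm ≪≫ (Scheme.Modules.pullback X.hom).mapIso e₀ ≪≫ c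
  haveI := Groth.Abvar.isIntegral_left X
  obtain ⟨x⟩ := (inferInstance : Nonempty X.left)
  have hr : FlatMod.IsFinLocFreeOfRank d ((Scheme.Modules.pullback f.left).obj
      ((Scheme.Modules.pushforward f.left).obj (Coh.structureModule X.left))) :=
    Groth.LocFree.isFinLocFreeOfRank_pullback f.left
      (Groth.Misc6.FinCov.pushforward_of_isCover f.left d ⟨⟨inferInstance, inferInstance, inferInstance⟩, hd⟩)
  have hdn : d = K.hom.finrank s₀ :=
    Groth.LocFree.rank_unique hr (Groth.LocFree.isFinLocFreeOfRank_of_iso e.symm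
      (Groth.LocFree.isFinLocFreeOfRank_freeMod _ _)) x
  exact ⟨e ≪≫ eqToIso (by rw [hdn])⟩

end Groth.AbVarEuler
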