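import Groth.Agent.CohFin.PushAffine
import Groth.Agent.EulerDeg.Tensor
import Groth.Agent.HilbStab.BC.CurvBC

/-!
The Euler characteristic of a direct image along an affine morphism of proper schemes over a field.
-/

set_option autoImplicit false
universe u

open CategoryTheory Limits AlgebraicGeometry Coh

namespace Groth.AbVarEuler

variable {k : Type u} [Field k] {X Y : Scheme.{u}} [X.Over (Spec (CommRingCat.of k))]
  [IsProper (X ↘ Spec (CommRingCat.of k))] [Y.Over (Spec (CommRingCat.of k))]
  [IsProper (Y ↘ Spec (CommRingCat.of k))]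

theorem euler_push_affine (f : X ⟶ Y) [IsAffineHom f]
    (hf : f ≫ (Y ↘ Spec (CommRingCat.of k)) = X ↘ Spec (CommRingCat.of k))
    (M : X.Modules) (hM : IsQCoh M) :
    Curv2.euler k Y ((Scheme.Modules.pushforward f).obj M) = Curv2.euler k X M := by
  have : M.IsQuasicoherent := hM
  have : CompactSpace X := QuasiCompact.compactSpace_of_compactSpace (X ↘ Spec (CommRingCat.of k))
  have := Groth.HilbStab.BC.isSeparated_of_proper k X
  have := Groth.HilbStab.BC.isSeparated_of_proper k Y
  refine finsum_congr fun i => ?_
  obtain ⟨e⟩ := Groth.CohFin.nonempty_linearEquiv_push f (Y ↘ Spec (CommRingCat.of k)) i M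
  have h := e.finrank_eq
  rw [hf] at h
  rw [show Module.finrank k (HH Y ((Scheme.Modules.pushforward f).obj M) i) =
    Module.finrank k (HH X M i) from h]

end Groth.AbVarEuler
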