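import Mathlib

/-!
Polynomial identities behind `χ(L^a) = a^g χ(L)` on an abelian variety.
-/

set_option autoImplicit false

open Polynomial

namespace Groth.AbVarEuler

theorem eq_of_nat_pos {p q : ℚ[X]} (h : ∀ n : ℕ, 1 ≤ n → p.eval (n : ℚ) = q.eval (n : ℚ)) : p = q := by
  refine Polynomial.eq_of_infinite_eval_eq p q (Set.Infinite.mono (s := Set.range fun n : ℕ => ((n + 1 : ℕ) : ℚ)) ?_ ?_)
  · rintro _ ⟨n, rfl⟩
    exact h (n + 1) (by omega)
  · exact Set.infinite_range_of_injective fun a b hab => by simpa using hab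

/-- A polynomial of degree at most `g` in two variables satisfying the quadratic scaling identity is `a^g K`. -/
theorem exists_homogeneous {g : ℕ} (P : MvPolynomial (Fin 2) ℚ) (hP : P.totalDegree ≤ g)
    (h : ∀ a m n : ℕ, 1 ≤ n → MvPolynomial.eval (fun i => ((![a * n ^ 2, a * n.choose 2 + m * n] i : ℕ) : ℚ)) P =
      (n : ℚ) ^ (2 * g) * MvPolynomial.eval (fun i => ((![a, m] i : ℕ) : ℚ)) P) :
    ∃ K : ℚ, ∀ a m : ℕ, MvPolynomial.eval (fun i => ((![a, m] i : ℕ) : ℚ)) P = (a : ℚ) ^ g * K := by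
  refine ⟨∑ e ∈ P.support, if e 0 + e 1 = g then P.coeff e * (1 / 2 : ℚ) ^ e 1 else 0, fun a m => ?_⟩
  let q₀ : ℚ[X] := C (a : ℚ) * X ^ 2
  let q₁ : ℚ[X] := C ((a : ℚ) / 2) * X ^ 2 + C ((m : ℚ) - a / 2) * X
  let φ : ℚ[X] := MvPolynomial.aeval ![q₀, q₁] P
  set c := MvPolynomial.eval (fun i => ((![a, m] i : ℕ) : ℚ)) P
  have hφ : φ = C c * X ^ (2 * g) := by
    refine eq_of_nat_pos fun n hn => ?_
    have hmap : φ.eval (n : ℚ) = MvPolynomial.eval (fun i => (![q₀, q₁] i).eval (n : ℚ)) P := by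
      simp only [φ]
      rw [← Polynomial.coe_evalRingHom, MvPolynomial.map_aeval]
      simp [MvPolynomial.eval₂_eq', MvPolynomial.eval_eq']
    rw [hmap, eval_mul, eval_C, eval_pow, eval_X, mul_comm, ← h a m n hn]
    congr 1
    refine congrArg MvPolynomial.eval (funext fun i => ?_)
    fin_cases i
    · simp [q₀]
    · simp [q₁, Nat.cast_choose_two]
      ring
  have h0 : q₀.natDegree ≤ 2 := by simp only [q₀]; compute_degree
  have h1 : q₁.natDegree ≤ 2 := by simp only [q₁]; compute_degree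
  have hc0 : q₀.coeff 2 = a := by simp [q₀]
  have hc1 : q₁.coeff 2 = a / 2 := by simp [q₁]
  have hterm : ∀ e ∈ P.support, (C (P.coeff e) * (q₀ ^ e 0 * q₁ ^ e 1)).coeff (2 * g) =
      (a : ℚ) ^ g * if e 0 + e 1 = g then P.coeff e * (1 / 2 : ℚ) ^ e 1 else 0 := by
    intro e he
    have hle : e 0 + e 1 ≤ g := by
      have := (MvPolynomial.le_totalDegree he).trans hP
      rwa [Finsupp.sum_fintype _ _ (fun _ => rfl), Fin.sum_univ_two] at this
    rw [coeff_C_mul]
    have d0 : (q₀ ^ e 0).natDegree ≤ e 0 * 2 := natDegree_pow_le_of_le _ h0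
    have d1 : (q₁ ^ e 1).natDegree ≤ e 1 * 2 := natDegree_pow_le_of_le _ h1
    split_ifs with hg
    · rw [show 2 * g = e 0 * 2 + e 1 * 2 by omega, coeff_mul_add_eq_of_natDegree_le d0 d1,
        coeff_pow_of_natDegree_le h0, coeff_pow_of_natDegree_le h1, hc0, hc1, ← hg, div_pow, div_pow, one_pow, pow_add]
      ring
    · rw [coeff_eq_zero_of_natDegree_lt, mul_zero, mul_zero]
      exact (natDegree_mul_le_of_le d0 d1).trans_lt (by omega)
  have := congrArg (fun p : ℚ[X] => p.coeff (2 * g)) hφ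
  simp only [φ, MvPolynomial.aeval_def, MvPolynomial.eval₂_eq', finset_sum_coeff, coeff_C_mul, coeff_X_pow,
    if_true, mul_one, Fin.prod_univ_two] at this
  rw [← this, Finset.mul_sum]
  refine Finset.sum_congr rfl fun e he => ?_
  rw [← hterm e he, coeff_C_mul]
  simp

/-- The coefficient of `m^g` in a binomial expansion of `m^g c`. -/
theorem top_binomial {g : ℕ} (δ : ℕ → ℚ) (c : ℚ)
    (h : ∀ m : ℕ, 1 ≤ m → (m : ℚ) ^ g * c = ∑ i ∈ Finset.range (g + 1), ((m + i - 1).choose i : ℚ) * δ i) :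
    (g.factorial : ℚ) * c = δ g := by
  have hp : ∑ i ∈ Finset.range (g + 1), C (δ i / (i.factorial : ℚ)) * ascPochhammer ℚ i = C c * X ^ g := by
    refine eq_of_nat_pos fun m hm => ?_
    rw [eval_finset_sum, eval_mul, eval_C, eval_pow, eval_X, mul_comm, h m hm]
    refine Finset.sum_congr rfl fun i _ => ?_
    rw [eval_mul, eval_C, ← Nat.cast_ascFactorial ℚ, Nat.ascFactorial_eq_factorial_mul_choose']
    push_cast
    field_simp
  have hg := congrArg (fun p : ℚ[X] => p.coeff g) hp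
  simp only [finset_sum_coeff, coeff_C_mul, coeff_X_pow, if_true, mul_one] at hg
  rw [Finset.sum_eq_single g, show (ascPochhammer ℚ g).coeff g = 1 from by
      have := (monic_ascPochhammer ℚ g).coeff_natDegree
      rwa [ascPochhammer_natDegree] at this,
    mul_one] at hg
  · rw [← hg]; field_simp
  · intro i hi hne
    rw [coeff_eq_zero_of_natDegree_lt (by rw [ascPochhammer_natDegree]; have := Finset.mem_range.1 hi; omega), mul_zero]
  · intro hg'
    exact absurd (Finset.mem_range.2 (Nat.lt_succ_self g)) hg'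

end Groth.AbVarEuler
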